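import Mathlib
import Groth.Agent.EtaleAlgebra.EtaleCoord

/-!
# Coordinates on smooth algebras adapted to a derivation-detecting set
-/

set_option autoImplicit false
universe u

open TensorProduct

namespace Groth.SmoothSlice

variable {A B : Type u} [CommRing A] [CommRing B] [Algebra A B]

/-- If derivations at `q` are detected on `C`, the differentials of `C` generate `Ω` at `q`. -/
theorem span_D_eq_top [Algebra.EssFiniteType A B] (q : Ideal B) [q.IsPrime] (C : Set B)
    (h : ∀ D : Derivation A B q.ResidueField, (∀ c ∈ C, D c = 0) → D = 0) :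
    Submodule.span (Localization.AtPrime q) (Set.range fun c : C =>
      KaehlerDifferential.D A (Localization.AtPrime q) (algebraMap B _ c.1)) = ⊤ := by
  let L := Localization.AtPrime q
  let M := Ω[L⁄A]
  have : Algebra.EssFiniteType A L := Algebra.EssFiniteType.comp A B L
  have : Module.Finite L M := inferInstance
  let N := Submodule.span L (Set.range fun c : C =>
    KaehlerDifferential.D A L (algebraMap B _ c.1))
  have key : ∀ φ : M →ₗ[L] q.ResidueField, N ≤ LinearMap.ker φ → φ = 0 := by
    intro φ hφ
    let D₀ : Derivation A L q.ResidueField := φ.compDer (KaehlerDifferential.D A L)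
    have hD : D₀.compAlgebraMap B = 0 := h _ fun c hc =>
      hφ (Submodule.subset_span ⟨⟨c, hc⟩, rfl⟩)
    have hD₀ : D₀ = 0 := by
      ext l
      obtain ⟨⟨b, s⟩, rfl⟩ := IsLocalization.mk'_surjective q.primeCompl l
      have hb : D₀ (algebraMap B L b) = 0 := DFunLike.congr_fun hD b
      have hs : D₀ (algebraMap B L s) = 0 := DFunLike.congr_fun hD s.1
      have e := congrArg D₀ (IsLocalization.mk'_spec L b s)
      rw [D₀.leibniz, hb, hs, smul_zero, zero_add] at e
      exact (IsLocalization.map_units L s).smul_eq_zero.mp e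
    refine (KaehlerDifferential.linearMapEquivDerivation A L).injective ?_
    rw [map_zero]
    exact hD₀
  rw [← IsLocalRing.map_tensorProduct_mk_eq_top]
  let K := IsLocalRing.ResidueField L
  let mk₁ : M →ₗ[L] K ⊗[L] M := TensorProduct.mk L K M 1
  have hspan : Submodule.span K (N.map mk₁ : Set (K ⊗[L] M)) = ⊤ := by
    by_contra hne
    obtain ⟨f, hf, hker⟩ := Submodule.exists_le_ker_of_lt_top _ (lt_of_le_of_ne le_top hne)
    let φ : M →ₗ[L] q.ResidueField := (f.restrictScalars L).comp mk₁
    have hφ : φ = 0 := key φ fun m hm =>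
      hker (Submodule.subset_span (Submodule.mem_map_of_mem hm))
    refine hf (LinearMap.ext fun x => ?_)
    obtain ⟨m, rfl⟩ := TensorProduct.mk_surjective L M K IsLocalRing.residue_surjective x
    exact LinearMap.congr_fun hφ m
  rw [eq_top_iff]
  intro x _
  have hx : x ∈ (Submodule.span K (N.map mk₁ : Set (K ⊗[L] M))).restrictScalars L := by
    rw [hspan]; exact trivial
  rwa [Submodule.restrictScalars_span L K IsLocalRing.residue_surjective, Submodule.span_eq] at hx

/-- A smooth algebra has etale coordinates in any derivation-detecting subset. -/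
theorem exists_etale_coords [Algebra.Smooth A B] (q : Ideal B) [q.IsPrime] (C : Set B)
    (h : ∀ D : Derivation A B q.ResidueField, (∀ c ∈ C, D c = 0) → D = 0) :
    ∃ (n : Type u) (_ : Finite n) (c : n → B) (b : B), (∀ i, c i ∈ C) ∧ b ∉ q ∧
      ((algebraMap B (Localization.Away b)).comp (MvPolynomial.aeval (R := A) c).toRingHom).Etale := by
  let L := Localization.AtPrime q
  have : Algebra.EssFiniteType A L := Algebra.EssFiniteType.comp A B L
  have : Algebra.FormallySmooth A L :=
    haveI := Algebra.FormallySmooth.of_isLocalization (R := B) (Rₘ := L) q.primeCompl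
    Algebra.FormallySmooth.comp A B L
  have : Module.Finite L Ω[L⁄A] := inferInstance
  have : Module.Projective L Ω[L⁄A] := inferInstance
  have : Module.FinitePresentation L Ω[L⁄A] := Module.finitePresentation_of_projective L _
  obtain ⟨κ, a, bs, hbs⟩ := Module.exists_basis_of_span_of_flat _ (span_D_eq_top q C h)
  have : Finite κ := Module.Finite.finite_basis bs
  let c : κ → B := fun i => (a i).1
  let _ : Algebra (MvPolynomial κ A) B := (MvPolynomial.aeval (R := A) c).toRingHom.toAlgebra
  have : IsScalarTower A (MvPolynomial κ A) B :=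
    IsScalarTower.of_algebraMap_eq fun x => ((MvPolynomial.aeval (R := A) c).commutes x).symm
  have hX : ∀ i, algebraMap (MvPolynomial κ A) L (MvPolynomial.X i) = algebraMap B L (c i) :=
    fun i => by
      rw [IsScalarTower.algebraMap_apply (MvPolynomial κ A) B L]
      exact congrArg _ (MvPolynomial.aeval_X c i)
  have hD : (fun i : κ => KaehlerDifferential.D A L
      (algebraMap (MvPolynomial κ A) L (MvPolynomial.X i))) = bs := by
    funext i
    rw [hX, hbs]
  have : Algebra.IsEtaleAt (MvPolynomial κ A) q := by
    show Algebra.FormallyEtale (MvPolynomial κ A) L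
    rw [Groth.Agent.EtaleAlgebra.EtaleCoord.formallyEtale_iff_linearIndependent_span A L κ, hD]
    exact ⟨bs.linearIndependent, bs.span_eq⟩
  have : Algebra.FinitePresentation (MvPolynomial κ A) B :=
    Algebra.FinitePresentation.of_restrict_scalars_finitePresentation A _ _
  obtain ⟨b, hb, hE⟩ := Algebra.exists_etale_of_isEtaleAt (R := MvPolynomial κ A) q
  refine ⟨κ, inferInstance, c, b, fun i => (a i).2, hb, ?_⟩
  rw [← RingHom.etale_algebraMap, IsScalarTower.algebraMap_eq (MvPolynomial κ A) B] at hE
  exact hE

/-- Derivations at `q` vanishing on `q` vanish when the residue extension is separable. -/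
theorem derivation_eq_zero_of_isSeparable (p : Ideal A) [p.IsPrime] (q : Ideal B) [q.IsPrime]
    [q.LiesOver p] [Algebra p.ResidueField q.ResidueField]
    [IsScalarTower A p.ResidueField q.ResidueField]
    [Algebra.IsSeparable p.ResidueField q.ResidueField]
    (D : Derivation A B q.ResidueField) (h : ∀ c ∈ q, D c = 0) : D = 0 := by
  have : Algebra.FormallyUnramified A p.ResidueField :=
    Algebra.FormallyUnramified.comp A (Localization.AtPrime p) p.ResidueField
  have : Algebra.FormallyUnramified p.ResidueField q.ResidueField :=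
    Algebra.FormallyUnramified.of_isSeparable _ _
  have : Algebra.FormallyUnramified A q.ResidueField :=
    Algebra.FormallyUnramified.comp A p.ResidueField q.ResidueField
  -- lift `D` to the residue field by formal etaleness of `B/q → κ(q)`
  let K := q.ResidueField
  let g : B →ₐ[A] TrivSqZeroExt K K :=
    { toFun := fun b => TrivSqZeroExt.inl (algebraMap B K b) + TrivSqZeroExt.inr (D b)
      map_one' := by simp
      map_mul' := fun x y => by
        ext
        · simp; ring
        · simp [D.leibniz, Algebra.smul_def]; ring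
      map_zero' := by simp
      map_add' := fun x y => by ext <;> simp <;> ring
      commutes' := fun r => by
        ext
        · simp [TrivSqZeroExt.algebraMap_eq_inl', ← IsScalarTower.algebraMap_apply A B K]
        · simp [TrivSqZeroExt.algebraMap_eq_inl'] }
  have hg : ∀ x ∈ q, g x = 0 := fun x hx => by
    have : algebraMap B K x = 0 := (Ideal.algebraMap_residueField_eq_zero).mpr hx
    simp [g, this, h x hx]
  let g' : B ⧸ q →ₐ[A] TrivSqZeroExt K K := Ideal.Quotient.liftₐ q g hg
  have hu : ∀ y : nonZeroDivisors (B ⧸ q), IsUnit (g' y) := by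
    rintro ⟨y, hy⟩
    obtain ⟨b, rfl⟩ := Ideal.Quotient.mk_surjective y
    rw [TrivSqZeroExt.isUnit_iff_isUnit_fst]
    have : algebraMap B K b ≠ 0 := fun e => nonZeroDivisors.ne_zero hy
      (Ideal.Quotient.eq_zero_iff_mem.mpr (Ideal.algebraMap_residueField_eq_zero.mp e))
    show IsUnit (TrivSqZeroExt.fst (g b))
    exact isUnit_iff_ne_zero.mpr (by simpa [g] using this)
  let G : K →ₐ[A] TrivSqZeroExt K K := IsLocalization.liftAlgHom hu
  let I₀ : K →ₐ[A] TrivSqZeroExt K K :=
    (TrivSqZeroExt.inlAlgHom K K K).restrictScalars A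
  have e : G = I₀ := by
    refine Algebra.FormallyUnramified.lift_unique
      (RingHom.ker (TrivSqZeroExt.fstHom K K K).toRingHom) ⟨2, ?_⟩ G I₀ ?_
    · rw [Ideal.zero_eq_bot, pow_two, eq_bot_iff, Ideal.mul_le]
      intro x hx y hy
      rw [RingHom.mem_ker] at hx hy
      rw [Ideal.mem_bot]
      have hx' : x.fst = 0 := hx
      have hy' : y.fst = 0 := hy
      ext <;> simp [hx', hy']
    · apply IsLocalization.algHom_ext (nonZeroDivisors (B ⧸ q))
      ext y
      obtain ⟨b, rfl⟩ := Ideal.Quotient.mk_surjective y
      refine Ideal.Quotient.eq.mpr ?_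
      have e₁ : G (algebraMap (B ⧸ q) K (Ideal.Quotient.mk q b)) = g b := by
        simp only [G, IsLocalization.coe_liftAlgHom, IsLocalization.lift_eq]
        rfl
      rw [RingHom.mem_ker]
      show TrivSqZeroExt.fst (G (algebraMap (B ⧸ q) K (Ideal.Quotient.mk q b)) -
        TrivSqZeroExt.inl (algebraMap (B ⧸ q) K (Ideal.Quotient.mk q b))) = 0
      rw [e₁, TrivSqZeroExt.fst_sub]
      simp [g, K]
  ext b
  have e₂ : G (algebraMap (B ⧸ q) K (Ideal.Quotient.mk q b)) = g b := by
    simp only [G, IsLocalization.coe_liftAlgHom, IsLocalization.lift_eq]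
    rfl
  rw [e] at e₂
  have e₃ : TrivSqZeroExt.inl (algebraMap (B ⧸ q) K (Ideal.Quotient.mk q b)) = g b := e₂
  simpa [g] using (congrArg TrivSqZeroExt.snd e₃).symm

end Groth.SmoothSlice
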