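import Mathlib
import Groth.Agent.SmoothSlice.Coords

/-!
# Etale slices: coordinates on smooth morphisms and points with etale integral coordinates
-/

set_option autoImplicit false
set_option backward.isDefEq.respectTransparency.types false
universe u

open CategoryTheory CategoryTheory.Limits AlgebraicGeometry

namespace Groth.SmoothSlice

local notation3 "ℤ[" n "]" => CommRingCat.of (MvPolynomial n (ULift ℤ))

/-- Algebra maps into affine space over an affine base. -/
theorem homOfVector_Spec {A B : CommRingCat.{u}} (n : Type u) (φ : A ⟶ B) (c : n → B) :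
    AffineSpace.homOfVector (Spec.map φ) (fun i => (Scheme.ΓSpecIso B).inv (c i)) =
      Spec.map (CommRingCat.ofHom (MvPolynomial.eval₂Hom φ.hom c)) ≫ (AffineSpace.SpecIso n A).inv := by
  ext1
  · rw [AffineSpace.homOfVector_over, Category.assoc, AffineSpace.SpecIso_inv_over, ← Spec.map_comp,
      ← CommRingCat.ofHom_comp, MvPolynomial.eval₂Hom_comp_C, CommRingCat.ofHom_hom]
  · rw [AffineSpace.homOfVector_appTop_coord, Scheme.Hom.comp_appTop, CommRingCat.comp_apply]
    rename_i i
    erw [AffineSpace.SpecIso_inv_appTop_coord]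
    rw [← CommRingCat.comp_apply, ← Scheme.ΓSpecIso_inv_naturality, CommRingCat.comp_apply]
    simp
    rfl

/-- A morphism into affine space composed with the functorial map. -/
theorem homOfVector_map {X S T : Scheme.{u}} (n : Type u) (f : X ⟶ S) (g : S ⟶ T)
    (v : n → Γ(X, ⊤)) :
    AffineSpace.homOfVector f v ≫ AffineSpace.map n g = AffineSpace.homOfVector (f ≫ g) v := by
  rw [AffineSpace.map, AffineSpace.comp_homOfVector]
  congr 1
  · rw [AffineSpace.homOfVector_over_assoc]
  · funext i
    exact AffineSpace.homOfVector_appTop_coord _ _ _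

/-- Smooth morphisms have etale coordinates in any derivation-detecting set of functions. -/
theorem exists_etale_coords_scheme {X Y : Scheme.{u}} (f : X ⟶ Y) [Smooth f] {A B : CommRingCat.{u}}
    (φ : A ⟶ B) (i : Spec A ⟶ Y) [IsOpenImmersion i] (j : Spec B ⟶ X) [IsOpenImmersion j]
    (w : j ≫ f = Spec.map φ ≫ i) (q : PrimeSpectrum B) (C : Set B)
    (h : letI := φ.hom.toAlgebra
      ∀ D : Derivation A B q.asIdeal.ResidueField, (∀ c ∈ C, D c = 0) → D = 0) :
    ∃ (n : Type u) (_ : Finite n) (c : n → B) (b : B), (∀ k, c k ∈ C) ∧ q ∈ PrimeSpectrum.basicOpen b ∧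
      Etale (AffineSpace.homOfVector
        (Spec.map (CommRingCat.ofHom (algebraMap B (Localization.Away b))) ≫ j ≫ f)
        (fun k => (Scheme.ΓSpecIso (.of (Localization.Away b))).inv (algebraMap B _ (c k)))) := by
  algebraize [φ.hom]
  have : Smooth (j ≫ f) := inferInstance
  rw [w] at this
  have sq : IsPullback (𝟙 _) (Spec.map φ) (Spec.map φ ≫ i) i :=
    ⟨⟨Category.id_comp _⟩, ⟨PullbackCone.IsLimit.mk _ (fun c => c.fst) (fun c => Category.comp_id _)
      (fun c => by rw [← cancel_mono i, Category.assoc]; exact c.condition)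
      (fun c m h₁ _ => by simpa using h₁)⟩⟩
  have : Smooth (Spec.map φ) := MorphismProperty.of_isPullback sq this
  have : Algebra.Smooth A B :=
    RingHom.smooth_algebraMap.mp ((HasRingHomProperty.Spec_iff (P := @Smooth)).mp this)
  obtain ⟨n, hn, c, b, hc, hb, he⟩ := exists_etale_coords q.asIdeal C h
  refine ⟨n, hn, c, b, hc, hb, ?_⟩
  let β : B ⟶ CommRingCat.of (Localization.Away b) := CommRingCat.ofHom (algebraMap B _)
  rw [show (fun k => (Scheme.ΓSpecIso (.of (Localization.Away b))).inv
    (algebraMap B _ (c k))) = fun k => (Scheme.ΓSpecIso _).inv (β (c k)) from rfl]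
  rw [w, ← Category.assoc, ← Spec.map_comp, ← homOfVector_map, homOfVector_Spec (c := fun k => β (c k))]
  have e1 : Etale (Spec.map (CommRingCat.ofHom (MvPolynomial.eval₂Hom (φ ≫ β).hom fun k => β (c k)))) := by
    rw [HasRingHomProperty.Spec_iff (P := @Etale)]
    have key : MvPolynomial.eval₂Hom (φ ≫ β).hom (fun k => β (c k)) =
        (algebraMap B (Localization.Away b)).comp (MvPolynomial.aeval (R := A) c).toRingHom := by
      refine MvPolynomial.ringHom_ext (fun r => ?_) fun k => ?_
      · simp [β, RingHom.algebraMap_toAlgebra]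
      · simp [β]
    exact key ▸ he
  have : IsOpenImmersion (AffineSpace.map n i) :=
    MorphismProperty.of_isPullback (AffineSpace.isPullback_map i).flip (inferInstanceAs (IsOpenImmersion i))
  infer_instance

/-- Some root of some `X ^ m - X` avoids a given nonzero polynomial. -/
theorem exists_root_not_root {Ω : Type u} [Field Ω] [IsAlgClosed Ω] {Q : Polynomial Ω} (hQ : Q ≠ 0) :
    ∃ (m : ℕ) (x : Ω), 2 ≤ m ∧ x ^ m - x = 0 ∧ (m : Ω) * x ^ (m - 1) - 1 ≠ 0 ∧ Q.eval x ≠ 0 := by
  obtain ⟨m, hm, hm'⟩ : ∃ m, Q.natDegree + 2 ≤ m ∧ ((m : Ω) - 1) ≠ 0 := by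
    by_cases h : ((Q.natDegree + 2 : ℕ) : Ω) - 1 = 0
    · refine ⟨Q.natDegree + 3, by omega, fun h' => one_ne_zero (α := Ω) ?_⟩
      push_cast at h h'
      linear_combination h' - h
    · exact ⟨_, le_rfl, h⟩
  let F : Polynomial Ω := Polynomial.X ^ m - Polynomial.X
  have hder : ∀ x : Ω, F.eval x = 0 → F.derivative.eval x ≠ 0 := by
    intro x hx
    simp only [F, Polynomial.derivative_sub, Polynomial.derivative_X_pow, Polynomial.derivative_X,
      Polynomial.eval_sub, Polynomial.eval_mul, Polynomial.eval_C, Polynomial.eval_pow,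
      Polynomial.eval_X, Polynomial.eval_one] at hx ⊢
    by_cases h0 : x = 0
    · simp [h0, zero_pow (show m - 1 ≠ 0 by omega)]
    · have : x ^ (m - 1) = 1 := by
        apply mul_right_cancel₀ h0
        rw [one_mul, ← pow_succ, Nat.sub_add_cancel (by omega)]
        exact sub_eq_zero.mp hx
      rwa [this, mul_one]
  have hdeg : F.natDegree = m :=
    FiniteField.X_pow_card_sub_X_natDegree_eq Ω (by omega)
  have hF0 : F ≠ 0 := fun e => by rw [e, Polynomial.natDegree_zero] at hdeg; omega
  by_contra hcon
  push Not at hcon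
  have hsub : ∀ x ∈ F.roots, x ∈ Q.roots := fun x hx => by
    have hx' := (Polynomial.mem_roots hF0).mp hx
    refine (Polynomial.mem_roots hQ).mpr (hcon m x (by omega) ?_ ?_)
    · simpa [F] using hx'.eq_zero
    · simpa [F, Polynomial.derivative_X_pow] using hder x hx'
  have hnd : F.roots.Nodup := by
    classical
    rw [Multiset.nodup_iff_count_le_one]
    intro x
    rw [Polynomial.count_roots]
    by_contra h2
    have := (Polynomial.one_lt_rootMultiplicity_iff_isRoot hF0).mp (not_le.mp h2)
    exact hder x this.1 this.2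
  have h1 : Multiset.card F.roots ≤ Multiset.card Q.roots :=
    Multiset.card_le_card ((Multiset.le_iff_subset hnd).mpr hsub)
  have h2 : Multiset.card F.roots = m := by
    rw [← hdeg]; exact (IsAlgClosed.splits F).natDegree_eq_card_roots.symm
  have h3 := Polynomial.card_roots' Q
  omega

/-- A nonzero polynomial over an algebraically closed field takes a nonzero value at a point with
coordinates in an algebra etale over `ℤ`. -/
theorem exists_etale_int_point {n : Type u} [Finite n] {Ω : Type u} [Field Ω] [IsAlgClosed Ω]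
    {P : MvPolynomial n Ω} (hP : P ≠ 0) :
    ∃ (A : CommRingCat.{u}) (φ : CommRingCat.of (ULift.{u} ℤ) ⟶ A) (a : n → A)
      (ψ : A ⟶ CommRingCat.of Ω), φ.hom.Etale ∧ MvPolynomial.eval (fun i => ψ (a i)) P ≠ 0 := by
  classical
  obtain ⟨d, ⟨e⟩⟩ := Finite.exists_equiv_fin n
  let D := P.totalDegree + 1
  have hdeg : ∀ s ∈ P.support, ∀ i, s i < D := fun s hs i => by
    have h1 := MvPolynomial.le_totalDegree hs
    have h2 : s i ≤ s.sum fun _ k => k := by
      by_cases hi : i ∈ s.support
      · exact Finset.single_le_sum (f := fun j => s j) (fun j _ => Nat.zero_le _) hi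
      · simp [Finsupp.notMem_support_iff.mp hi]
    omega
  let w : n → ℕ := fun i => D ^ (e i : ℕ)
  let E : (n →₀ ℕ) → ℕ := fun s => s.sum fun i k => w i * k
  let Q : Polynomial Ω := MvPolynomial.aeval (fun i => (Polynomial.X : Polynomial Ω) ^ w i) P
  have hQsum : Q = ∑ s ∈ P.support, Polynomial.monomial (E s) (P.coeff s) := by
    conv_lhs => rw [show Q = MvPolynomial.aeval (fun i => (Polynomial.X : Polynomial Ω) ^ w i) P from rfl,
      P.as_sum, map_sum]
    refine Finset.sum_congr rfl fun s _ => ?_
    rw [MvPolynomial.aeval_monomial, ← Polynomial.C_mul_X_pow_eq_monomial]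
    congr 1
    simp only [E, ← pow_mul, Finsupp.prod, Finsupp.sum]
    exact Finset.prod_pow_eq_pow_sum _ _ _
  obtain ⟨s₀, hs₀⟩ := MvPolynomial.support_nonempty.mpr hP
  have hEinj : ∀ s ∈ P.support, E s = E s₀ → s = s₀ := by
    intro s hs he
    let t : (s' : n →₀ ℕ) → s' ∈ P.support → Fin d → Fin D := fun s' h i =>
      ⟨s' (e.symm i), hdeg s' h _⟩
    have key : ∀ (s' : n →₀ ℕ) (h : s' ∈ P.support), ((finFunctionFinEquiv (t s' h) : Fin (D ^ d)) : ℕ) = E s' := by
      intro s' h
      have := Fintype.ofFinite n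
      rw [finFunctionFinEquiv_apply]
      simp only [E, t]
      rw [Finsupp.sum_fintype _ _ (fun i => by simp), ← e.symm.sum_comp]
      refine Finset.sum_congr rfl fun i _ => ?_
      simp [w, mul_comm]
    have := finFunctionFinEquiv.injective (Fin.ext ((key s hs).trans (he.trans (key s₀ hs₀).symm)))
    ext i
    simpa [t] using congrArg Fin.val (congrFun this (e i))
  have hQ : Q ≠ 0 := fun h0 => by
    have := congrArg (fun q => Polynomial.coeff q (E s₀)) (hQsum.symm.trans h0)
    simp only [Polynomial.finsetSum_coeff, Polynomial.coeff_monomial, Polynomial.coeff_zero] at this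
    rw [Finset.sum_eq_single s₀ (fun s hs hne => if_neg fun h => hne (hEinj s hs h))
      (fun h => absurd hs₀ h), if_pos rfl] at this
    exact MvPolynomial.mem_support_iff.mp hs₀ this
  obtain ⟨m, x, hm, hx, hx', hQx⟩ := exists_root_not_root hQ
  let R : Type u := ULift.{u} ℤ
  let S : StandardEtalePair R :=
    { f := Polynomial.X ^ m - Polynomial.X
      monic_f := Polynomial.monic_X_pow_sub (lt_of_le_of_lt Polynomial.degree_X_le (by exact_mod_cast hm))
      g := Polynomial.derivative (Polynomial.X ^ m - Polynomial.X)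
      cond := ⟨1, 0, 1, by simp⟩ }
  let _ : Algebra R Ω := ((Int.castRingHom Ω).comp ULift.ringEquiv.toRingHom).toAlgebra
  have hmap : S.HasMap x := by
    refine ⟨by simpa [S] using hx, isUnit_iff_ne_zero.mpr ?_⟩
    simpa [S, Polynomial.derivative_X_pow] using hx'
  refine ⟨.of S.Ring, CommRingCat.ofHom (algebraMap R S.Ring), fun i => S.X ^ w i,
    CommRingCat.ofHom (S.lift x hmap).toRingHom, RingHom.etale_algebraMap.mpr inferInstance, ?_⟩
  have : (fun i => (CommRingCat.ofHom (S.lift x hmap).toRingHom) (S.X ^ w i)) = fun i => x ^ w i := by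
    funext i
    exact (map_pow (S.lift x hmap) S.X (w i)).trans (by rw [StandardEtalePair.lift_X])
  rw [show (fun i => _) = _ from this]
  convert hQx using 1
  rw [hQsum, Polynomial.eval_finsetSum, MvPolynomial.eval_eq]
  refine Finset.sum_congr rfl fun s _ => ?_
  rw [Polynomial.eval_monomial]
  congr 1
  simp only [E, ← pow_mul, Finsupp.sum]
  exact Finset.prod_pow_eq_pow_sum _ _ _

end Groth.SmoothSlice
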