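import Mathlib
import Groth.Agent.SmoothSlice.Slice

/-!
# Slicing affine spaces by points with etale integral coordinates
-/

set_option autoImplicit false
set_option backward.isDefEq.respectTransparency.types false
universe u

open CategoryTheory CategoryTheory.Limits AlgebraicGeometry

namespace Groth.SmoothSlice

local notation3 "ℤ[" n "]" => CommRingCat.of (MvPolynomial n (ULift ℤ))

variable {n : Type u}

/-- The slice of an etale map into affine space by an etale integral point is etale over the base. -/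
theorem etale_slice {O Y : Scheme.{u}} (φ : O ⟶ 𝔸(n; Y)) [Etale φ] {A : CommRingCat.{u}}
    (σ : Spec A ⟶ Spec ℤ[n]) [Etale (terminal.from (Spec A))] :
    Etale (pullback.fst (φ ≫ AffineSpace.toSpecMvPoly n Y) σ ≫ φ ≫ (𝔸(n; Y) ↘ Y)) := by
  let P := pullback (AffineSpace.toSpecMvPoly n Y) σ
  have sq : IsPullback (pullback.snd (AffineSpace.toSpecMvPoly n Y) σ)
      (pullback.fst (AffineSpace.toSpecMvPoly n Y) σ ≫ (𝔸(n; Y) ↘ Y))
      (terminal.from (Spec A)) (terminal.from Y) := by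
    have h : IsPullback (AffineSpace.toSpecMvPoly n Y) (𝔸(n; Y) ↘ Y) (terminal.from (Spec ℤ[n]))
        (terminal.from Y) :=
      IsPullback.flip (IsPullback.of_hasPullback (terminal.from Y) (terminal.from (Spec ℤ[n])))
    have := (IsPullback.of_hasPullback (AffineSpace.toSpecMvPoly n Y) σ).flip.paste_vert h
    rwa [terminal.comp_from] at this
  have : Etale (pullback.fst (AffineSpace.toSpecMvPoly n Y) σ ≫ (𝔸(n; Y) ↘ Y)) :=
    MorphismProperty.of_isPullback sq inferInstance
  let l : pullback (φ ≫ AffineSpace.toSpecMvPoly n Y) σ ⟶ P :=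
    pullback.lift (pullback.fst _ _ ≫ φ) (pullback.snd _ _) (by rw [Category.assoc, pullback.condition])
  have sq₂ : IsPullback (pullback.fst (φ ≫ AffineSpace.toSpecMvPoly n Y) σ) l φ
      (pullback.fst (AffineSpace.toSpecMvPoly n Y) σ) := by
    refine IsPullback.of_bot ?_ ?_ (IsPullback.of_hasPullback (AffineSpace.toSpecMvPoly n Y) σ)
    · convert IsPullback.of_hasPullback (φ ≫ AffineSpace.toSpecMvPoly n Y) σ using 1
      exact pullback.lift_snd _ _ _
    · exact (pullback.lift_fst _ _ _).symm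
  have : Etale l := MorphismProperty.of_isPullback sq₂ inferInstance
  have e : pullback.fst (φ ≫ AffineSpace.toSpecMvPoly n Y) σ ≫ φ ≫ (𝔸(n; Y) ↘ Y) =
      l ≫ pullback.fst (AffineSpace.toSpecMvPoly n Y) σ ≫ (𝔸(n; Y) ↘ Y) := by
    rw [pullback.lift_fst_assoc]; simp
  rw [e]
  infer_instance

/-- An etale map into affine space over `Y` can be sliced through the fibre of any of its points. -/
theorem exists_etale_slice [Finite n] {O Y : Scheme.{u}} (φ : O ⟶ 𝔸(n; Y)) [Etale φ] (o : O) :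
    ∃ (W : Scheme.{u}) (i : W ⟶ O) (w : W), Etale (i ≫ φ ≫ (𝔸(n; Y) ↘ Y)) ∧
      (i ≫ φ ≫ (𝔸(n; Y) ↘ Y)) w = (φ ≫ (𝔸(n; Y) ↘ Y)) o ∧
      ∃ (A : CommRingCat.{u}) (σ : Spec A ⟶ Spec ℤ[n]) (k : W ⟶ Spec A),
        Etale (terminal.from (Spec A)) ∧ IsPullback i k (φ ≫ AffineSpace.toSpecMvPoly n Y) σ := by
  let s := (φ ≫ (𝔸(n; Y) ↘ Y)) o
  let Ω := CommRingCat.of (AlgebraicClosure (Y.residueField s))
  let η : Spec Ω ⟶ Y :=
    Spec.map (CommRingCat.ofHom (algebraMap (Y.residueField s) (AlgebraicClosure (Y.residueField s)))) ≫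
      Y.fromSpecResidueField s
  have hη : ∀ x, η x = s := fun x => by rw [Scheme.Hom.comp_apply, Scheme.fromSpecResidueField_apply]
  let O' := pullback φ (AffineSpace.map n η)
  let φ' : O' ⟶ Spec (.of (MvPolynomial n Ω)) := pullback.snd φ (AffineSpace.map n η) ≫ (AffineSpace.SpecIso n Ω).hom
  have hne : ∃ z : O', pullback.fst φ (AffineSpace.map n η) z = o := by
    have hA : φ o ∈ Set.range (AffineSpace.map n η) := by
      obtain ⟨a, ha, -⟩ := Scheme.exists_preimage_of_isPullback (AffineSpace.isPullback_map η)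
        (φ o) (IsLocalRing.closedPoint Ω) (hη _).symm
      exact ⟨a, ha⟩
    obtain ⟨a, ha⟩ := hA
    obtain ⟨z, hz, -⟩ := Scheme.Pullback.exists_preimage_pullback (f := φ) (g := AffineSpace.map n η) o a ha.symm
    exact ⟨z, hz⟩
  obtain ⟨z, -⟩ := hne
  have hopen : IsOpen (Set.range φ') := by
    rw [← Set.image_univ]
    exact φ'.isOpenMap _ isOpen_univ
  obtain ⟨_, ⟨P, rfl⟩, hzP, hPsub⟩ := PrimeSpectrum.isTopologicalBasis_basic_opens.exists_subset_of_mem_open
    (show φ' z ∈ Set.range φ' from ⟨z, rfl⟩) hopen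
  have hP : P ≠ 0 := fun h => by
    subst h
    exact hzP (Ideal.zero_mem _)
  obtain ⟨A, γ, a, ψ, hγ, hval⟩ := exists_etale_int_point hP
  let σ : Spec A ⟶ Spec ℤ[n] := Spec.map (CommRingCat.ofHom (MvPolynomial.eval₂Hom γ.hom a))
  let ev : CommRingCat.of (MvPolynomial n Ω) ⟶ Ω :=
    CommRingCat.ofHom (MvPolynomial.eval₂Hom (RingHom.id Ω) fun i => ψ (a i))
  have hev : (Spec.map ev) (IsLocalRing.closedPoint Ω) ∈ PrimeSpectrum.basicOpen P := by
    show ev P ∉ (IsLocalRing.closedPoint Ω).asIdeal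
    intro hmem
    change ev P ∈ IsLocalRing.maximalIdeal Ω at hmem
    exact hmem (isUnit_iff_ne_zero.mpr hval)
  obtain ⟨z', hz'⟩ := hPsub hev
  let pt : Spec Ω ⟶ 𝔸(n; Spec Ω) := Spec.map ev ≫ (AffineSpace.SpecIso n Ω).inv
  have hpt : pt ≫ AffineSpace.toSpecMvPoly n (Spec Ω) = Spec.map ψ ≫ σ := by
    apply (AffineSpace.toSpecMvPolyIntEquiv _).injective
    funext i
    rw [AffineSpace.toSpecMvPolyIntEquiv_comp]
    change pt.appTop (AffineSpace.coord (Spec Ω) i) = _
    rw [AffineSpace.toSpecMvPolyIntEquiv_apply]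
    simp only [pt, σ, ← Spec.map_comp, Scheme.Hom.comp_appTop, CommRingCat.comp_apply]
    erw [AffineSpace.SpecIso_inv_appTop_coord]
    rw [← CommRingCat.comp_apply, ← Scheme.ΓSpecIso_inv_naturality, CommRingCat.comp_apply,
      ← CommRingCat.comp_apply (Scheme.ΓSpecIso ℤ[n]).inv, ← Scheme.ΓSpecIso_inv_naturality,
      CommRingCat.comp_apply]
    simp [ev]
    rfl
  have hz'pt : pullback.snd φ (AffineSpace.map n η) z' = pt (IsLocalRing.closedPoint Ω) := by
    apply (AffineSpace.SpecIso n Ω).hom.isOpenEmbedding.injective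
    rw [← Scheme.Hom.comp_apply, ← Scheme.Hom.comp_apply]
    simpa [pt, φ'] using hz'
  let o' := pullback.fst φ (AffineSpace.map n η) z'
  have ho' : φ o' = AffineSpace.map n η (pt (IsLocalRing.closedPoint Ω)) := by
    rw [← Scheme.Hom.comp_apply, pullback.condition, Scheme.Hom.comp_apply, hz'pt]
  have hsame : (φ ≫ AffineSpace.toSpecMvPoly n Y) o' = σ (Spec.map ψ (IsLocalRing.closedPoint Ω)) := by
    rw [Scheme.Hom.comp_apply, ho', ← Scheme.Hom.comp_apply, ← Scheme.Hom.comp_apply,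
      AffineSpace.map_toSpecMvPoly, hpt, Scheme.Hom.comp_apply]
  obtain ⟨w, hw, -⟩ := Scheme.Pullback.exists_preimage_pullback
    (f := φ ≫ AffineSpace.toSpecMvPoly n Y) (g := σ) o' _ hsame
  have hA : Etale (terminal.from (Spec A)) := by
    have he : terminal.from (Spec A) = Spec.map γ ≫ terminal.from (Spec (.of (ULift.{u} ℤ))) :=
      terminal.hom_ext _ _
    have := isIso_of_isTerminal specULiftZIsTerminal.{u} terminalIsTerminal (terminal.from _)
    have : Etale (Spec.map γ) := (HasRingHomProperty.Spec_iff (P := @Etale)).mpr hγ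
    rw [he]
    infer_instance
  refine ⟨_, pullback.fst _ σ, w, etale_slice φ σ, ?_, A, σ, pullback.snd _ σ, hA,
    IsPullback.of_hasPullback _ _⟩
  rw [Scheme.Hom.comp_apply, hw, Scheme.Hom.comp_apply, ho', ← Scheme.Hom.comp_apply,
    AffineSpace.map_over, Scheme.Hom.comp_apply, hη]

end Groth.SmoothSlice
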