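import Mathlib
import Groth.Agent.SmoothSlice.Points

/-!
# Etale-local sections and etale slices of smooth morphisms
-/

set_option autoImplicit false
set_option backward.isDefEq.respectTransparency.types false
universe u

open CategoryTheory CategoryTheory.Limits AlgebraicGeometry

namespace Groth.SmoothSlice

variable {X Y : Scheme.{u}} (f : X ⟶ Y)

/-- Unramified morphisms locally of finite type are locally quasi-finite. -/
theorem locallyQuasiFinite_of_formallyUnramified' {X Y : Scheme.{u}} (f : X ⟶ Y)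
    [LocallyOfFiniteType f] [FormallyUnramified f] : LocallyQuasiFinite f := by
  wlog hY : IsAffine Y generalizing X Y
  · rw [IsZariskiLocalAtTarget.iff_of_openCover (P := @LocallyQuasiFinite) Y.affineCover]
    intro i
    have _ := MorphismProperty.pullback_snd (P := @LocallyOfFiniteType) f (Y.affineCover.f i) inferInstance
    have _ := MorphismProperty.pullback_snd (P := @FormallyUnramified) f (Y.affineCover.f i) inferInstance
    exact this (pullback.snd f (Y.affineCover.f i)) inferInstance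
  wlog hX : IsAffine X generalizing X Y
  · rw [IsZariskiLocalAtSource.iff_of_openCover (P := @LocallyQuasiFinite) X.affineCover]
    intro i
    have _ := (IsZariskiLocalAtSource.iff_of_openCover (P := @FormallyUnramified) X.affineCover).1 ‹_› i
    exact this _ inferInstance inferInstance
  have h₁ := (HasRingHomProperty.iff_of_isAffine (P := @LocallyOfFiniteType)).1 ‹LocallyOfFiniteType f›
  have h₂ := (HasRingHomProperty.iff_of_isAffine (P := @FormallyUnramified)).1 ‹FormallyUnramified f›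
  rw [HasRingHomProperty.iff_of_isAffine (P := @LocallyQuasiFinite)]
  algebraize [f.appTop.hom]
  have : Algebra.FormallyUnramified Γ(Y, ⊤) Γ(X, ⊤) := h₂
  have : Algebra.QuasiFinite Γ(Y, ⊤) Γ(X, ⊤) := inferInstance
  exact RingHom.quasiFinite_algebraMap.2 this

/-- Affine charts of a morphism around a point. -/
theorem exists_affine_chart (x : X) :
    ∃ (V : Y.Opens) (U : X.Opens) (_ : U ≤ f ⁻¹ᵁ V), IsAffineOpen V ∧ IsAffineOpen U ∧ x ∈ U := by
  obtain ⟨_, ⟨V : Y.Opens, hV, rfl⟩, hxV, -⟩ :=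
    Y.isBasis_affineOpens.exists_subset_of_mem_open (Set.mem_univ (f x)) isOpen_univ
  obtain ⟨_, ⟨U : X.Opens, hU, rfl⟩, hxU, eU⟩ :=
    X.isBasis_affineOpens.exists_subset_of_mem_open (show x ∈ f ⁻¹ᵁ V from hxV) (f ⁻¹ᵁ V).2
  exact ⟨V, U, eU, hV, hU, hxU⟩

/-- Etale coordinates near a point of a smooth morphism. -/
theorem exists_etale_nbhd_affineSpace [Smooth f] (x : X) {V : Y.Opens} (hV : IsAffineOpen V)
    {U : X.Opens} (hU : IsAffineOpen U) (e : U ≤ f ⁻¹ᵁ V) (hx : x ∈ U) (C : Set Γ(X, U))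
    (h : letI := (f.appLE V U e).hom.toAlgebra
      ∀ D : Derivation Γ(Y, V) Γ(X, U) (hU.primeIdealOf ⟨x, hx⟩).asIdeal.ResidueField,
        (∀ c ∈ C, D c = 0) → D = 0) :
    ∃ (n : Type u) (_ : Finite n) (O : Scheme.{u}) (k : O ⟶ X) (c : n → Γ(X, U))
      (hk : ⊤ ≤ k ⁻¹ᵁ U) (o : O),
      IsOpenImmersion k ∧ k o = x ∧ (∀ i, c i ∈ C) ∧
        Etale (AffineSpace.homOfVector (k ≫ f) (fun i => k.appLE U ⊤ hk (c i))) := by
  obtain ⟨n, hn, c, b, hc, hb, he⟩ := exists_etale_coords_scheme f (f.appLE V U e) hV.fromSpec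
    hU.fromSpec (hV.SpecMap_appLE_fromSpec f hU e).symm (hU.primeIdealOf ⟨x, hx⟩) C h
  let β : Γ(X, U) ⟶ CommRingCat.of (Localization.Away b) :=
    CommRingCat.ofHom (algebraMap Γ(X, U) _)
  let k : Spec (CommRingCat.of (Localization.Away b)) ⟶ X := Spec.map β ≫ hU.fromSpec
  have hβ : IsOpenImmersion (Spec.map β) := IsOpenImmersion.of_isLocalization b
  have hk : ⊤ ≤ k ⁻¹ᵁ U := fun z _ => by
    show k z ∈ U
    rw [Scheme.Hom.comp_apply]
    exact hU.range_fromSpec.subset ⟨_, rfl⟩
  have hq : hU.primeIdealOf ⟨x, hx⟩ ∈ Set.range (Spec.map β) := by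
    rw [show Set.range (Spec.map β) = _ from PrimeSpectrum.localization_away_comap_range _ b]
    exact hb
  obtain ⟨o, ho⟩ := hq
  refine ⟨n, hn, _, k, c, hk, o, inferInstance, ?_, hc, ?_⟩
  · rw [Scheme.Hom.comp_apply, ho, hU.fromSpec_primeIdealOf]
  · have hfun : (fun i => k.appLE U ⊤ hk (c i)) =
        fun i => (Scheme.ΓSpecIso (.of (Localization.Away b))).inv (β (c i)) := by
      funext i
      have : k.appLE U ⊤ hk = β ≫ (Scheme.ΓSpecIso _).inv := by
        rw [Scheme.ΓSpecIso_inv_naturality, Scheme.Hom.comp_appLE, hU.fromSpec_app_self,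
          Category.assoc, Scheme.Hom.map_appLE]
        simp [Scheme.Hom.appLE]
      rw [this]; rfl
    rw [hfun, Category.assoc]
    exact he

/-- A smooth morphism has sections etale-locally through the image of any point. -/
theorem exists_etale_section [Smooth f] (x : X) :
    ∃ (W : Scheme.{u}) (h : W ⟶ X) (w : W), Etale (h ≫ f) ∧ (h ≫ f) w = f x := by
  obtain ⟨V, U, e, hV, hU, hx⟩ := exists_affine_chart f x
  obtain ⟨n, hn, O, k, c, hk, o, hki, hko, -, he⟩ :=
    exists_etale_nbhd_affineSpace f x hV hU e hx Set.univ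
      (by intro D hD; exact DFunLike.ext _ _ fun b => hD b trivial)
  have := he
  obtain ⟨W, i, w, hi, hw, -⟩ :=
    exists_etale_slice (AffineSpace.homOfVector (k ≫ f) (fun j => k.appLE U ⊤ hk (c j))) o
  simp only [AffineSpace.homOfVector_over] at hi hw
  refine ⟨W, i ≫ k, w, ?_, ?_⟩
  · rw [Category.assoc]; exact hi
  · rw [Category.assoc, hw, Scheme.Hom.comp_apply, hko]

/-- Separability of residue fields read on affine charts. -/
theorem isSeparable_residueField {V : Y.Opens} (hV : IsAffineOpen V) {U : X.Opens}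
    (hU : IsAffineOpen U) (e : U ≤ f ⁻¹ᵁ V) {x : X} (hx : x ∈ U)
    (hsep : @Algebra.IsSeparable (Y.residueField (f x)) (X.residueField x) _ _
      (f.residueFieldMap x).hom.toAlgebra) :
    @Algebra.IsSeparable (hV.primeIdealOf ⟨f x, e hx⟩).asIdeal.ResidueField
      (hU.primeIdealOf ⟨x, hx⟩).asIdeal.ResidueField _ _
      (Ideal.ResidueField.map _ _ (f.appLE V U e).hom
        congr($(IsAffineOpen.comap_primeIdealOf_appLE V hV U hU e hx).1).symm).toAlgebra := by
  let E := IsAffineOpen.arrowStalkMapIso f V hV U hU e hx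
  let eL : Y.presheaf.stalk (f x) ≅
      CommRingCat.of (Localization.AtPrime (hV.primeIdealOf ⟨f x, e hx⟩).asIdeal) :=
    Arrow.leftFunc.mapIso E
  let eR : X.presheaf.stalk x ≅
      CommRingCat.of (Localization.AtPrime (hU.primeIdealOf ⟨x, hx⟩).asIdeal) :=
    Arrow.rightFunc.mapIso E
  let e₁ : Y.residueField (f x) ≃+* _ :=
    IsLocalRing.ResidueField.mapEquiv eL.commRingCatIsoToRingEquiv
  let e₂ : X.residueField x ≃+* _ :=
    IsLocalRing.ResidueField.mapEquiv eR.commRingCatIsoToRingEquiv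
  algebraize [(f.residueFieldMap x).hom, Ideal.ResidueField.map _ _ (f.appLE V U e).hom
    congr($(IsAffineOpen.comap_primeIdealOf_appLE V hV U hU e hx).1).symm]
  have := hsep
  refine Algebra.IsSeparable.of_equiv_equiv e₁ e₂ (RingHom.ext fun r => ?_)
  obtain ⟨r, rfl⟩ := IsLocalRing.residue_surjective r
  exact congrArg (IsLocalRing.residue _) (congr($(E.hom.w) r))

/-- The locally closed etale slice through a point with separable residue extension. -/
theorem exists_etale_slice_through [Smooth f] (x : X)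
    (hsep : @Algebra.IsSeparable (Y.residueField (f x)) (X.residueField x) _ _
      (f.residueFieldMap x).hom.toAlgebra) :
    ∃ (Z : Scheme.{u}) (i : Z ⟶ X) (z : Z), IsImmersion i ∧ Etale (i ≫ f) ∧ i z = x ∧
      ∀ z' : ↑Z, f (i z') = f x → z' = z := by
  obtain ⟨V, U, e, hV, hU, hx⟩ := exists_affine_chart f x
  let p := (hV.primeIdealOf ⟨f x, e hx⟩).asIdeal
  let q := (hU.primeIdealOf ⟨x, hx⟩).asIdeal
  have hpq : p = q.comap (f.appLE V U e).hom :=
    congr($(IsAffineOpen.comap_primeIdealOf_appLE V hV U hU e hx).1).symm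
  have hs := isSeparable_residueField f hV hU e hx hsep
  have hder : letI := (f.appLE V U e).hom.toAlgebra
      ∀ D : Derivation Γ(Y, V) Γ(X, U) q.ResidueField, (∀ c ∈ (q : Set Γ(X, U)), D c = 0) → D = 0 := by
    algebraize [(f.appLE V U e).hom, Ideal.ResidueField.map p q (f.appLE V U e).hom hpq]
    have : q.LiesOver p := ⟨hpq⟩
    have : IsScalarTower Γ(Y, V) p.ResidueField q.ResidueField :=
      IsScalarTower.of_algebraMap_eq fun a => (Ideal.ResidueField.map_algebraMap p q _ hpq a).symm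
    have : Algebra.IsSeparable p.ResidueField q.ResidueField := hs
    exact fun D hD => derivation_eq_zero_of_isSeparable p q D hD
  obtain ⟨n, hn, O, k, c, hk, o, hki, hko, hc, he⟩ :=
    exists_etale_nbhd_affineSpace f x hV hU e hx (q : Set Γ(X, U)) hder
  let φ := AffineSpace.homOfVector (k ≫ f) (fun i => k.appLE U ⊤ hk (c i))
  let s₀ : Y ⟶ 𝔸(n; Y) := AffineSpace.homOfVector (𝟙 Y) (0 : n → Γ(Y, ⊤))
  have : IsClosedImmersion s₀ := by
    have h1 : IsClosedImmersion (s₀ ≫ (𝔸(n; Y) ↘ Y)) := by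
      rw [AffineSpace.homOfVector_over]; infer_instance
    exact IsClosedImmersion.of_comp s₀ (𝔸(n; Y) ↘ Y)
  let Z₀ := pullback φ s₀
  have hZ₀ : Etale (pullback.snd φ s₀) := inferInstance
  have hcond : pullback.fst φ s₀ ≫ k ≫ f = pullback.snd φ s₀ := by
    have := pullback.condition (f := φ) (g := s₀) =≫ (𝔸(n; Y) ↘ Y)
    simpa [φ, s₀] using this
  -- the point of the slice
  let g' : Spec (X.residueField x) ⟶ O :=
    IsOpenImmersion.lift k (X.fromSpecResidueField x)
      (by rw [Scheme.range_fromSpecResidueField, Set.singleton_subset_iff]; exact ⟨o, hko⟩)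
  have hg' : g' ≫ k = X.fromSpecResidueField x := IsOpenImmersion.lift_fac _ _ _
  have hφ : g' ≫ φ = (g' ≫ k ≫ f) ≫ s₀ := by
    rw [AffineSpace.comp_homOfVector, AffineSpace.comp_homOfVector, Category.comp_id]
    congr 1
    funext i
    simp only [Function.comp_apply, Pi.zero_apply, map_zero]
    have hmem : x ∉ X.basicOpen (c i) := by
      intro hmem
      have h1 : hU.primeIdealOf ⟨x, hx⟩ ∈ hU.fromSpec ⁻¹ᵁ X.basicOpen (c i) := by
        show hU.fromSpec _ ∈ X.basicOpen (c i)
        rw [hU.fromSpec_primeIdealOf]; exact hmem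
      rw [hU.fromSpec_preimage_basicOpen] at h1
      exact h1 (hc i)
    have e' : ⊤ ≤ X.fromSpecResidueField x ⁻¹ᵁ U := fun z _ => by
      show X.fromSpecResidueField x z ∈ U
      rw [Scheme.fromSpecResidueField_apply]; exact hx
    have key : g'.appTop (k.appLE U ⊤ hk (c i)) = (X.fromSpecResidueField x).appLE U ⊤ e' (c i) := by
      have h2 := congr($(Scheme.Hom.appLE_comp_appLE g' k U ⊤ ⊤ hk le_top) (c i))
      simp only [hg'] at h2
      rw [Scheme.Hom.appTop, ← Scheme.Hom.appLE_eq_app]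
      exact h2
    rw [key]
    apply (basicOpen_eq_bot_iff _).mp
    rw [Scheme.Hom.appLE, CommRingCat.comp_apply, Scheme.basicOpen_res, ← Scheme.preimage_basicOpen]
    ext z
    simp only [SetLike.mem_coe, TopologicalSpace.Opens.coe_bot, Set.mem_empty_iff_false, iff_false]
    rintro ⟨-, hz⟩
    apply hmem
    have hz' : X.fromSpecResidueField x z ∈ X.basicOpen (c i) := hz
    rwa [Scheme.fromSpecResidueField_apply] at hz'
  let zz : Spec (X.residueField x) ⟶ Z₀ := pullback.lift g' (g' ≫ k ≫ f) hφ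
  let z₀ : Z₀ := zz (IsLocalRing.closedPoint (X.residueField x))
  have hz₀ : (pullback.fst φ s₀ ≫ k) z₀ = x := by
    rw [← Scheme.Hom.comp_apply, pullback.lift_fst_assoc, hg', Scheme.fromSpecResidueField_apply]
  -- isolate the point in its fibre
  let π := pullback.snd φ s₀
  have : Etale π := hZ₀
  have : LocallyQuasiFinite π := locallyQuasiFinite_of_formallyUnramified' π
  have hd : _root_.IsDiscrete (π ⁻¹' {π z₀}) := π.isDiscrete_preimage_singleton _
  obtain ⟨O', hO', hO'z⟩ : ∃ O' : Set Z₀, IsOpen O' ∧ O' ∩ π ⁻¹' {π z₀} = {z₀} := by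
    obtain ⟨O', h1, h2⟩ := isDiscrete_iff_forall_mem_exists_isOpen.mp hd z₀ (Set.mem_preimage.mpr rfl)
    exact ⟨O', h1, h2⟩
  let W : Z₀.Opens := ⟨O', hO'⟩
  have hzW : z₀ ∈ W := (hO'z.ge rfl).1
  refine ⟨W, W.ι ≫ pullback.fst φ s₀ ≫ k, ⟨z₀, hzW⟩, inferInstance, ?_, hz₀, fun z' hz' => ?_⟩
  · rw [Category.assoc, Category.assoc, hcond]; infer_instance
  · apply Subtype.ext
    have h1 : π z'.1 = π z₀ := by
      have e1 : ∀ y : Z₀, π y = f ((pullback.fst φ s₀ ≫ k) y) := fun y => by
        rw [← Scheme.Hom.comp_apply, Category.assoc, hcond]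
      rw [e1, e1, hz₀]
      exact hz'
    exact (hO'z.le ⟨z'.2, h1⟩ : z'.1 = z₀)

end Groth.SmoothSlice
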