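import Mathlib
import Groth.Agent.PropsBasic.LociBaseChange.Scheme

/-!
# The etale locus of a morphism and flat base change
-/

set_option autoImplicit false
set_option backward.isDefEq.respectTransparency.types false
universe u

open CategoryTheory CategoryTheory.Limits AlgebraicGeometry TopologicalSpace

namespace Groth.SmoothSlice

variable {X S X' S' : Scheme.{u}} {f : X ⟶ S} {g : S' ⟶ S} {f' : X' ⟶ S'} {g' : X' ⟶ X}

/-- The largest open on which a morphism is etale. -/
def etaleOpen (f : X ⟶ S) : X.Opens := sSup {O | Etale (O.ι ≫ f)}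

theorem mem_etaleOpen {f : X ⟶ S} {x : X} :
    x ∈ etaleOpen f ↔ ∃ O : X.Opens, x ∈ O ∧ Etale (O.ι ≫ f) := by
  simp [etaleOpen, Opens.mem_sSup, and_comm]

instance etale_etaleOpen (f : X ⟶ S) : Etale ((etaleOpen f).ι ≫ f) := by
  refine IsZariskiLocalAtSource.of_iSup_eq_top (P := @Etale)
    (fun O : {O : X.Opens // Etale (O.ι ≫ f)} => (etaleOpen f).ι ⁻¹ᵁ O.1) ?_ fun O => ?_
  · refine top_le_iff.mp fun z _ => ?_
    obtain ⟨O, hO, hE⟩ := mem_etaleOpen.1 z.2
    exact Opens.mem_iSup.2 ⟨⟨O, hE⟩, hO⟩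
  · obtain ⟨O, hE⟩ := O
    let l : ((etaleOpen f).ι ⁻¹ᵁ O : (etaleOpen f : Scheme.{u}).Opens).toScheme ⟶ O :=
      IsOpenImmersion.lift O.ι (((etaleOpen f).ι ⁻¹ᵁ O).ι ≫ (etaleOpen f).ι) (by
        rintro _ ⟨w, rfl⟩
        rw [Scheme.Opens.range_ι, Scheme.Hom.comp_apply]
        exact w.2)
    have hl : l ≫ O.ι = ((etaleOpen f).ι ⁻¹ᵁ O).ι ≫ (etaleOpen f).ι :=
      IsOpenImmersion.lift_fac _ _ _
    have : IsOpenImmersion (l ≫ O.ι) := by rw [hl]; infer_instance
    have : IsOpenImmersion l := IsOpenImmersion.of_comp l O.ι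
    rw [← Category.assoc, ← hl, Category.assoc]
    infer_instance

/-- The etale locus pulls back into the etale locus. -/
theorem preimage_etaleOpen_le (H : IsPullback g' f' f g) : g' ⁻¹ᵁ etaleOpen f ≤ etaleOpen f' := by
  have hsq : IsPullback (g' ∣_ etaleOpen f) ((g' ⁻¹ᵁ etaleOpen f).ι ≫ f') ((etaleOpen f).ι ≫ f) g :=
    (isPullback_morphismRestrict g' (etaleOpen f)).paste_vert H
  exact le_sSup (show Etale _ from MorphismProperty.of_isPullback hsq (etale_etaleOpen f))

/-- The etale locus descends along flat base change. -/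
theorem mem_etaleOpen_of_flat (H : IsPullback g' f' f g) [LocallyOfFinitePresentation f] [Flat g]
    {x' : X'} (hx' : x' ∈ etaleOpen f') : g' x' ∈ etaleOpen f := by
  have : LocallyOfFinitePresentation f' := MorphismProperty.of_isPullback H inferInstance
  obtain ⟨O', hO', hE⟩ := mem_etaleOpen.1 hx'
  have hsm : x' ∈ f'.smoothLocus := by
    have : Smooth (O'.ι ≫ f') := inferInstance
    have h : (⟨x', hO'⟩ : O') ∈ O'.ι ⁻¹ᵁ f'.smoothLocus := by
      rw [Scheme.Hom.preimage_smoothLocus_eq O'.ι f', Scheme.Hom.smoothLocus_eq_top]; trivial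
    exact h
  have h1 := Groth.PropsBasic.Loci.mem_smoothLocus_of_flat H hsm
  obtain ⟨O, hO, hFU⟩ := Groth.PropsBasic.Loci.exists_formallyUnramified_of_baseChange H
    (x' := x') ⟨O', hO', inferInstance⟩
  refine mem_etaleOpen.2 ⟨O ⊓ f.smoothLocus, ⟨hO, h1⟩, ?_⟩
  have hfu : FormallyUnramified ((O ⊓ f.smoothLocus).ι ≫ f) := by
    rw [← X.homOfLE_ι (inf_le_left : O ⊓ f.smoothLocus ≤ O), Category.assoc]
    exact MorphismProperty.comp_mem @FormallyUnramified _ _ inferInstance hFU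
  have : Smooth ((O ⊓ f.smoothLocus).ι ≫ f) := by
    rw [← Scheme.Hom.smoothLocus_eq_top_iff, ← Scheme.Hom.preimage_smoothLocus_eq]
    exact top_le_iff.mp fun p _ => p.2.2
  have := hfu
  exact Etale.of_formallyUnramified_of_flat _

end Groth.SmoothSlice
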