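import Mathlib
import Groth.Agent.SmoothSlice.Sections
import Groth.Agent.SmoothSlice.EtaleLocus
import Groth.Agent.S4599

/-!
# Slicing smooth equivalence relations
-/

set_option autoImplicit false
set_option backward.isDefEq.respectTransparency.types false
universe u

open CategoryTheory CategoryTheory.Limits AlgebraicGeometry TopologicalSpace

namespace Groth.SmoothSlice

variable {R U : Scheme.{u}}

/-- A smooth equivalence relation in elementary form: jointly monic projections, a unit, and the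
division map. -/
structure SmoothRel (s t : R ⟶ U) : Prop where
  smooth_s : Smooth s
  smooth_t : Smooth t
  mono : ∀ {Z : Scheme.{u}} (x y : Z ⟶ R), x ≫ s = y ≫ s → x ≫ t = y ≫ t → x = y
  unit : ∃ e : U ⟶ R, e ≫ s = 𝟙 U ∧ e ≫ t = 𝟙 U
  div : ∀ {Z : Scheme.{u}} (x y : Z ⟶ R), x ≫ s = y ≫ s → ∃ m : Z ⟶ R, m ≫ s = x ≫ t ∧ m ≫ t = y ≫ t
  act : ∀ {Z : Scheme.{u}} (x m : Z ⟶ R), x ≫ t = m ≫ s → ∃ y : Z ⟶ R, y ≫ s = x ≫ s ∧ y ≫ t = m ≫ t

variable {s t : R ⟶ U}

/-- Functions on the target detect derivations relative to the source. -/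
theorem derivation_detect (h : SmoothRel s t) {V : U.Opens} (hV : IsAffineOpen V) {B : R.Opens}
    (hB : IsAffineOpen B) (es : B ≤ s ⁻¹ᵁ V) (et : B ≤ t ⁻¹ᵁ V) (K : Type u) [Field K]
    [Algebra Γ(R, B) K] :
    letI := (s.appLE V B es).hom.toAlgebra
    ∀ [Algebra Γ(U, V) K] [IsScalarTower Γ(U, V) Γ(R, B) K] (D : Derivation Γ(U, V) Γ(R, B) K), (∀ c, D (t.appLE V B et c) = 0) → D = 0 := by
  algebraize [(s.appLE V B es).hom]
  intro _ _ D hD
  let g₀ : Γ(R, B) ⟶ CommRingCat.of (TrivSqZeroExt K K) :=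
    CommRingCat.ofHom ((TrivSqZeroExt.inlHom K K).comp (algebraMap Γ(R, B) K))
  let gD : Γ(R, B) ⟶ CommRingCat.of (TrivSqZeroExt K K) := CommRingCat.ofHom
    { toFun := fun b => TrivSqZeroExt.inl (algebraMap Γ(R, B) K b) + TrivSqZeroExt.inr (D b)
      map_one' := by simp
      map_mul' := fun x y => by
        ext
        · simp only [TrivSqZeroExt.fst_mul, TrivSqZeroExt.fst_add, TrivSqZeroExt.fst_inl,
            TrivSqZeroExt.fst_inr, map_mul, add_zero]
        · simp only [TrivSqZeroExt.snd_mul, TrivSqZeroExt.fst_add, TrivSqZeroExt.snd_add,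
            TrivSqZeroExt.fst_inl, TrivSqZeroExt.fst_inr, TrivSqZeroExt.snd_inl, TrivSqZeroExt.snd_inr,
            D.leibniz, Algebra.smul_def, map_mul, op_smul_eq_mul, add_zero, zero_add, Algebra.algebraMap_self, RingHom.id_apply]
          ring
      map_zero' := by simp
      map_add' := fun x y => by rw [map_add, map_add, TrivSqZeroExt.inl_add, TrivSqZeroExt.inr_add]; abel }
  have key : ∀ b : Γ(R, B), D b = 0 → g₀ b = gD b := by
    intro b hb
    show (TrivSqZeroExt.inlHom K K) (algebraMap Γ(R, B) K b) =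
      TrivSqZeroExt.inl (algebraMap Γ(R, B) K b) + TrivSqZeroExt.inr (D b)
    rw [hb, TrivSqZeroExt.inr_zero, add_zero]
    rfl
  have hs : s.appLE V B es ≫ g₀ = s.appLE V B es ≫ gD :=
    CommRingCat.hom_ext (RingHom.ext fun a => key _ (D.map_algebraMap a))
  have ht : t.appLE V B et ≫ g₀ = t.appLE V B et ≫ gD :=
    CommRingCat.hom_ext (RingHom.ext fun a => key _ (hD a))
  have e : Spec.map g₀ ≫ hB.fromSpec = Spec.map gD ≫ hB.fromSpec := by
    refine h.mono _ _ ?_ ?_
    · simp only [Category.assoc, ← hV.SpecMap_appLE_fromSpec s hB es]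
      rw [← Spec.map_comp_assoc, ← Spec.map_comp_assoc, hs]
    · simp only [Category.assoc, ← hV.SpecMap_appLE_fromSpec t hB et]
      rw [← Spec.map_comp_assoc, ← Spec.map_comp_assoc, ht]
  rw [cancel_mono] at e
  have e' := Spec.map_injective e
  refine DFunLike.ext _ _ fun b => ?_
  have e₁ : TrivSqZeroExt.inl (algebraMap Γ(R, B) K b) =
      TrivSqZeroExt.inl (algebraMap Γ(R, B) K b) + TrivSqZeroExt.inr (D b) := congr($e' b)
  have e₂ := congrArg TrivSqZeroExt.snd e₁
  rw [TrivSqZeroExt.snd_add, TrivSqZeroExt.snd_inl, TrivSqZeroExt.snd_inr, zero_add] at e₂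
  exact e₂.symm

/-- Slices of a smooth equivalence relation through the fibre of every point. -/
theorem exists_slice (h : SmoothRel s t) (u : U) :
    ∃ (W : Scheme.{u}) (g : W ⟶ U) (w : ↥(pullback g t)),
      Etale (pullback.snd g t ≫ s) ∧ (pullback.snd g t ≫ s) w = u := by
  obtain ⟨e, he₁, he₂⟩ := h.unit
  have := h.smooth_s
  have := h.smooth_t
  obtain ⟨_, ⟨V₀ : U.Opens, hV₀, rfl⟩, huV, -⟩ :=
    U.isBasis_affineOpens.exists_subset_of_mem_open (Set.mem_univ u) isOpen_univ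
  have hr : e u ∈ s ⁻¹ᵁ V₀ ⊓ t ⁻¹ᵁ V₀ := by
    refine ⟨?_, ?_⟩
    · show s (e u) ∈ V₀
      rw [← Scheme.Hom.comp_apply, he₁]; exact huV
    · show t (e u) ∈ V₀
      rw [← Scheme.Hom.comp_apply, he₂]; exact huV
  obtain ⟨_, ⟨B : R.Opens, hB, rfl⟩, hrB, hBsub⟩ :=
    R.isBasis_affineOpens.exists_subset_of_mem_open hr (s ⁻¹ᵁ V₀ ⊓ t ⁻¹ᵁ V₀).2
  have es : B ≤ s ⁻¹ᵁ V₀ := fun x hx => (hBsub hx).1
  have et : B ≤ t ⁻¹ᵁ V₀ := fun x hx => (hBsub hx).2
  obtain ⟨n, hn, O, k, c', hk, o, hki, hko, hc, he⟩ :=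
    exists_etale_nbhd_affineSpace s (e u) hV₀ hB es hrB (Set.range (t.appLE V₀ B et))
      (by
        algebraize [(s.appLE V₀ B es).hom]
        intro D hD
        exact derivation_detect h hV₀ hB es et _ D fun a => hD _ ⟨a, rfl⟩)
  choose c hc using hc
  let c₀ : n → Γ((V₀ : Scheme.{u}), ⊤) := fun i => V₀.ι.appLE V₀ ⊤ (by simp) (c i)
  let R₀ : R.Opens := t ⁻¹ᵁ V₀
  let t₀ : (R₀ : Scheme.{u}) ⟶ V₀ := t ∣_ V₀
  let v₀ : n → Γ((R₀ : Scheme.{u}), ⊤) := fun i => t₀.appTop (c₀ i)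
  let φ : (R₀ : Scheme.{u}) ⟶ 𝔸(n; U) := AffineSpace.homOfVector (R₀.ι ≫ s) v₀
  have : LocallyOfFinitePresentation φ := by
    have : LocallyOfFinitePresentation (φ ≫ (𝔸(n; U) ↘ U)) := by
      rw [AffineSpace.homOfVector_over]; infer_instance
    have : MorphismProperty.ContainsIdentities @LocallyOfFinitePresentation.{u} :=
      ⟨fun X => inferInstanceAs (LocallyOfFinitePresentation (𝟙 X))⟩
    have : MorphismProperty.IsMultiplicative @LocallyOfFinitePresentation.{u} := ⟨⟩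
    have : MorphismProperty.HasOfPostcompProperty @LocallyOfFinitePresentation.{u} @LocallyOfFiniteType.{u} := by
      rw [MorphismProperty.hasOfPostcompProperty_iff_le_diagonal]
      intro X Y f hf
      have : LocallyOfFiniteType f := hf
      exact Groth.Agent.S4599.result f
    exact MorphismProperty.of_postcomp @LocallyOfFinitePresentation (W' := @LocallyOfFiniteType) φ
      (𝔸(n; U) ↘ U) inferInstance ‹_›
  let E := etaleOpen φ
  -- the unit over `V₀`
  let e₀ : (V₀ : Scheme.{u}) ⟶ R₀ := IsOpenImmersion.lift R₀.ι (V₀.ι ≫ e) (by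
    rintro _ ⟨v, rfl⟩
    rw [Scheme.Opens.range_ι]
    show t ((V₀.ι ≫ e) v) ∈ V₀
    rw [← Scheme.Hom.comp_apply, Category.assoc, he₂, Category.comp_id]
    exact v.2)
  have he₀ : e₀ ≫ R₀.ι = V₀.ι ≫ e := IsOpenImmersion.lift_fac _ _ _
  have hrE : e₀ ⟨u, huV⟩ ∈ E := by
    let k₀ : O ⟶ R₀ := IsOpenImmersion.lift R₀.ι k (by
      rintro _ ⟨z, rfl⟩
      rw [Scheme.Opens.range_ι]
      exact et (hk trivial))
    have hk₀ : k₀ ≫ R₀.ι = k := IsOpenImmersion.lift_fac _ _ _
    have : IsOpenImmersion k₀ :=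
      have : IsOpenImmersion (k₀ ≫ R₀.ι) := by rw [hk₀]; infer_instance
      IsOpenImmersion.of_comp k₀ R₀.ι
    have hk₀φ : Etale (k₀ ≫ φ) := by
      convert he using 1
      rw [AffineSpace.comp_homOfVector, reassoc_of% hk₀]
      congr 1
      funext i
      simp only [Function.comp_apply, v₀, c₀]
      rw [← hc i]
      show ((k₀ ≫ t₀).appTop (V₀.ι.appLE V₀ ⊤ _ (c i))) = _
      have h2 := congr($(Scheme.Hom.appLE_comp_appLE (k₀ ≫ t₀) V₀.ι V₀ ⊤ ⊤ (by simp) le_top) (c i))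
      have h3 := congr($(Scheme.Hom.appLE_comp_appLE k t V₀ B ⊤ et hk) (c i))
      have e3 : (k₀ ≫ t₀) ≫ V₀.ι = k ≫ t := by
        rw [Category.assoc, morphismRestrict_ι, reassoc_of% hk₀]
      simp only [e3] at h2
      rw [Scheme.Hom.appTop, ← Scheme.Hom.appLE_eq_app]
      exact h2.trans h3.symm
    refine mem_etaleOpen.2 ⟨k₀.opensRange, ⟨o, ?_⟩, ?_⟩
    · apply R₀.ι.isOpenEmbedding.injective
      rw [← Scheme.Hom.comp_apply, hk₀, hko, ← Scheme.Hom.comp_apply, he₀, Scheme.Hom.comp_apply]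
      rfl
    · rw [← IsOpenImmersion.isoOfRangeEq_inv_fac k₀.opensRange.ι k₀ (by simp), Category.assoc] at hk₀φ
      exact (MorphismProperty.cancel_left_of_respectsIso @Etale _ _).mp hk₀φ
  -- the etale locus is saturated
  let P₀ := pullback s (R₀.ι ≫ s)
  let p₁ : P₀ ⟶ R := pullback.fst s (R₀.ι ≫ s)
  let p₂ : P₀ ⟶ (R₀ : Scheme.{u}) := pullback.snd s (R₀.ι ≫ s)
  have sq₀ : IsPullback p₁ p₂ s (R₀.ι ≫ s) := IsPullback.of_hasPullback _ _
  obtain ⟨m, hm₁, hm₂⟩ := h.div p₁ (p₂ ≫ R₀.ι) (by rw [Category.assoc]; exact sq₀.w)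
  let m₀ : P₀ ⟶ (R₀ : Scheme.{u}) := IsOpenImmersion.lift R₀.ι m (by
    rintro _ ⟨z, rfl⟩
    rw [Scheme.Opens.range_ι]
    show t (m z) ∈ V₀
    rw [← Scheme.Hom.comp_apply, hm₂, Category.assoc, Scheme.Hom.comp_apply, Scheme.Hom.comp_apply]
    exact (p₂ z).2)
  have hm₀ : m₀ ≫ R₀.ι = m := IsOpenImmersion.lift_fac _ _ _
  have hmt : m₀ ≫ t₀ = p₂ ≫ t₀ := by
    rw [← cancel_mono V₀.ι, Category.assoc, Category.assoc, morphismRestrict_ι,
      reassoc_of% hm₀, hm₂, Category.assoc]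
  have sqm : IsPullback p₁ m₀ t (R₀.ι ≫ s) := by
    refine ⟨⟨by rw [reassoc_of% hm₀, hm₁]⟩, ?_⟩
    have hy : ∀ c : PullbackCone t (R₀.ι ≫ s), ∃ y : c.pt ⟶ (R₀ : Scheme.{u}),
        y ≫ R₀.ι ≫ s = c.fst ≫ s ∧ y ≫ R₀.ι ≫ t = c.snd ≫ R₀.ι ≫ t := by
      intro c
      obtain ⟨y, hy₁, hy₂⟩ := h.act c.fst (c.snd ≫ R₀.ι) (by rw [Category.assoc]; exact c.condition)
      let y₀ : c.pt ⟶ (R₀ : Scheme.{u}) := IsOpenImmersion.lift R₀.ι y (by
        rintro _ ⟨z, rfl⟩
        rw [Scheme.Opens.range_ι]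
        show t (y z) ∈ V₀
        rw [← Scheme.Hom.comp_apply, hy₂, Category.assoc, Scheme.Hom.comp_apply,
          Scheme.Hom.comp_apply]
        exact (c.snd z).2)
      have hy₀ : y₀ ≫ R₀.ι = y := IsOpenImmersion.lift_fac _ _ _
      exact ⟨y₀, by rw [reassoc_of% hy₀, hy₁], by rw [reassoc_of% hy₀, hy₂, Category.assoc]⟩
    choose y hy₁ hy₂ using hy
    refine ⟨PullbackCone.IsLimit.mk _ (fun c => pullback.lift c.fst (y c) (hy₁ c).symm)
      (fun c => pullback.lift_fst _ _ _) (fun c => ?_) (fun c l hl₁ hl₂ => ?_)⟩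
    · rw [← cancel_mono R₀.ι, Category.assoc, hm₀]
      refine h.mono _ _ ?_ ?_
      · rw [Category.assoc, hm₁, pullback.lift_fst_assoc, Category.assoc]
        exact c.condition
      · rw [Category.assoc, hm₂]
        simp only [p₂, Category.assoc, pullback.lift_snd_assoc, hy₂]
    · apply pullback.hom_ext
      · rw [pullback.lift_fst]; exact hl₁
      · rw [pullback.lift_snd, ← cancel_mono R₀.ι]
        refine h.mono _ _ ?_ ?_
        · simp only [Category.assoc]
          rw [hy₁, ← hl₁, Category.assoc, pullback.condition]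
        · simp only [Category.assoc]
          rw [hy₂, ← hl₂, Category.assoc, reassoc_of% hm₀, hm₂, Category.assoc]
  let φ' : P₀ ⟶ 𝔸(n; R) := AffineSpace.homOfVector p₁ (fun i => p₂.appTop (v₀ i))
  have sqA : IsPullback p₂ φ' φ (AffineSpace.map n s) := by
    refine IsPullback.of_bot ?_ ?_ (AffineSpace.isPullback_map s)
    · rw [AffineSpace.homOfVector_over, AffineSpace.homOfVector_over]
      exact sq₀.flip
    · rw [AffineSpace.comp_homOfVector, homOfVector_map, sq₀.w]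
      rfl
  have sqB : IsPullback m₀ φ' φ (AffineSpace.map n t) := by
    refine IsPullback.of_bot ?_ ?_ (AffineSpace.isPullback_map t)
    · rw [AffineSpace.homOfVector_over, AffineSpace.homOfVector_over]
      exact sqm.flip
    · rw [AffineSpace.comp_homOfVector, homOfVector_map, sqm.w]
      congr 1
      funext i
      simp only [Function.comp_apply, v₀]
      rw [← CommRingCat.comp_apply, ← Scheme.Hom.comp_appTop, hmt, Scheme.Hom.comp_appTop,
        CommRingCat.comp_apply]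
  have : Flat (AffineSpace.map n s) :=
    MorphismProperty.of_isPullback (AffineSpace.isPullback_map s).flip (inferInstanceAs (Flat s))
  have : Flat (AffineSpace.map n t) :=
    MorphismProperty.of_isPullback (AffineSpace.isPullback_map t).flip (inferInstanceAs (Flat t))
  have hsat : ∀ r : (R₀ : Scheme.{u}), r ∈ E ↔ e₀ (t₀ r) ∈ E := by
    let δ : (R₀ : Scheme.{u}) ⟶ P₀ := pullback.lift R₀.ι (𝟙 _) (Category.id_comp _).symm
    have hδ₂ : δ ≫ p₂ = 𝟙 _ := pullback.lift_snd _ _ _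
    have hδm : δ ≫ m₀ = t₀ ≫ e₀ := by
      rw [← cancel_mono R₀.ι, Category.assoc, Category.assoc, hm₀, he₀, morphismRestrict_ι_assoc]
      refine h.mono _ _ ?_ ?_
      · rw [Category.assoc, hm₁, pullback.lift_fst_assoc]
        simp only [Category.assoc, he₁, Category.comp_id]
        rfl
      · rw [Category.assoc, hm₂, ← Category.assoc, ← Category.assoc δ, hδ₂, Category.id_comp]
        simp only [Category.assoc, he₂, Category.comp_id]
        rfl
    intro r
    have h₂ : p₂ (δ r) = r := by rw [← Scheme.Hom.comp_apply, hδ₂]; rfl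
    have hm' : m₀ (δ r) = e₀ (t₀ r) := by
      rw [← Scheme.Hom.comp_apply, hδm, Scheme.Hom.comp_apply]
    constructor
    · intro hr
      rw [← hm']
      exact mem_etaleOpen_of_flat sqB (preimage_etaleOpen_le sqA (show p₂ (δ r) ∈ _ by rwa [h₂]))
    · intro hr
      rw [← h₂]
      exact mem_etaleOpen_of_flat sqA (preimage_etaleOpen_le sqB (show m₀ (δ r) ∈ _ by rwa [hm']))
  -- slice
  let V : (V₀ : Scheme.{u}).Opens := e₀ ⁻¹ᵁ E
  let tE : (E : Scheme.{u}) ⟶ V := IsOpenImmersion.lift V.ι (E.ι ≫ t₀) (by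
    rintro _ ⟨z, rfl⟩
    rw [Scheme.Opens.range_ι, Scheme.Hom.comp_apply]
    exact (hsat z.1).1 z.2)
  have htE : tE ≫ V.ι = E.ι ≫ t₀ := IsOpenImmersion.lift_fac _ _ _
  have hEV : IsPullback (E.ι ≫ R₀.ι) tE t (V.ι ≫ V₀.ι) := by
    have h2 : IsPullback E.ι tE t₀ V.ι :=
      (IsOpenImmersion.isPullback tE E.ι V.ι t₀ htE.symm (by
        rw [Scheme.Opens.opensRange_ι, Scheme.Opens.opensRange_ι]
        ext z
        exact (hsat z).symm)).flip
    exact IsPullback.paste_horiz h2 (isPullback_morphismRestrict t V₀).flip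
  obtain ⟨W', i, w, hiE, hiw, A, σ, k', hA, hW'⟩ := exists_etale_slice (E.ι ≫ φ) ⟨e₀ ⟨u, huV⟩, hrE⟩
  let cm : (V : Scheme.{u}) ⟶ Spec (CommRingCat.of (MvPolynomial n (ULift.{u} ℤ))) :=
    V.ι ≫ (AffineSpace.toSpecMvPolyIntEquiv n).symm c₀
  have hφ : (E.ι ≫ φ) ≫ AffineSpace.toSpecMvPoly n U = tE ≫ cm := by
    rw [Category.assoc, AffineSpace.homOfVector_toSpecMvPoly, reassoc_of% htE]
    congr 1
    apply (AffineSpace.toSpecMvPolyIntEquiv n).injective
    funext j
    rw [AffineSpace.toSpecMvPolyIntEquiv_comp, Equiv.apply_symm_apply, Equiv.apply_symm_apply]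
  rw [hφ] at hW'
  let W := pullback cm σ
  let g : W ⟶ U := pullback.fst cm σ ≫ V.ι ≫ V₀.ι
  let j : W' ⟶ W := pullback.lift (i ≫ tE) k' (by rw [Category.assoc, hW'.w])
  have hj₁ : j ≫ pullback.fst cm σ = i ≫ tE := pullback.lift_fst _ _ _
  have sqW : IsPullback i j tE (pullback.fst cm σ) := by
    refine IsPullback.of_bot ?_ hj₁.symm (IsPullback.of_hasPullback cm σ)
    convert hW' using 1
    exact pullback.lift_snd _ _ _
  have sqR : IsPullback (i ≫ E.ι ≫ R₀.ι) j t g := sqW.paste_horiz hEV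
  let iso := sqR.flip.isoPullback
  have hiso : iso.hom ≫ pullback.snd g t = i ≫ E.ι ≫ R₀.ι := sqR.flip.isoPullback_hom_snd
  have hs' : iso.hom ≫ pullback.snd g t ≫ s = i ≫ (E.ι ≫ φ) ≫ (𝔸(n; U) ↘ U) := by
    rw [reassoc_of% hiso, Category.assoc, AffineSpace.homOfVector_over]
  refine ⟨W, g, iso.hom w, ?_, ?_⟩
  · exact (MorphismProperty.cancel_left_of_respectsIso @Etale iso.hom _).mp (by rw [hs']; exact hiE)
  · rw [← Scheme.Hom.comp_apply, hs', hiw, Category.assoc, AffineSpace.homOfVector_over]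
    show (E.ι ≫ R₀.ι ≫ s) ⟨e₀ ⟨u, huV⟩, hrE⟩ = u
    rw [Scheme.Hom.comp_apply]
    show (R₀.ι ≫ s) (e₀ ⟨u, huV⟩) = u
    rw [← Scheme.Hom.comp_apply, reassoc_of% he₀, he₁, Category.comp_id]
    rfl

/-- A smooth equivalence relation admits a slice which is etale and surjective over the base. -/
theorem exists_slice_surjective (h : SmoothRel s t) :
    ∃ (W : Scheme.{u}) (g : W ⟶ U), Etale (pullback.snd g t ≫ s) ∧
      Surjective (pullback.snd g t ≫ s) := by
  choose W g w hE hw using exists_slice h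
  refine ⟨∐ W, Sigma.desc g, ?_, ⟨fun u => ?_⟩⟩
  · rw [IsZariskiLocalAtSource.iff_of_openCover (P := @Etale)
      ((sigmaOpenCover W).pullback₁ (pullback.fst (Sigma.desc g) t))]
    intro u
    let c := Sigma.ι W u
    let L := pullback.map (g u) t (Sigma.desc g) t c (𝟙 R) (𝟙 U) (by simp [c]) (by simp)
    have sq : IsPullback L (pullback.fst (g u) t) (pullback.fst (Sigma.desc g) t) c := by
      refine IsPullback.of_right ?_ (pullback.lift_fst _ _ _)
        (IsPullback.of_hasPullback (Sigma.desc g) t).flip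
      convert (IsPullback.of_hasPullback (g u) t).flip using 1
      · exact (pullback.lift_snd _ _ _).trans (Category.comp_id _)
      · simp [c]
    refine (MorphismProperty.cancel_left_of_respectsIso @Etale sq.isoPullback.hom _).mp ?_
    have : sq.isoPullback.hom ≫ ((sigmaOpenCover W).pullback₁ (pullback.fst (Sigma.desc g) t)).f u = L :=
      sq.isoPullback_hom_fst
    erw [reassoc_of% this]
    simp only [L, pullback.map, pullback.lift_snd_assoc, Category.comp_id]
    exact hE u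
  · refine ⟨pullback.map (g u) t (Sigma.desc g) t (Sigma.ι W u) (𝟙 R) (𝟙 U) (by simp) (by simp) (w u), ?_⟩
    rw [← Scheme.Hom.comp_apply]
    simp only [pullback.map, pullback.lift_snd_assoc, Category.comp_id]
    exact hw u

end Groth.SmoothSlice
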